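import Cfsg.Agent.Lib.McL27.Word
import Cfsg.Agent.Lib.McL27.TC1
/-! Presentations on the generators z s a A b B q x y w v of the 2-local amalgams of `U₄(3)` and `McL` -/
set_option autoImplicit false
set_option maxRecDepth 100000
namespace H27.MP
open H54
def RT : List (List ℕ) := [[0, 0],
  [2, 2],
  [4, 4],
  [6, 6],
  [8, 8],
  [10, 10],
  [12, 12],
  [0, 2, 0, 2],
  [0, 4, 0, 4],
  [0, 6, 0, 6],
  [0, 8, 0, 8],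
  [0, 10, 0, 10],
  [0, 12, 0, 12],
  [2, 4, 2, 4],
  [2, 6, 2, 6],
  [2, 8, 2, 8],
  [2, 10, 2, 10],
  [4, 6, 4, 6],
  [8, 10, 8, 10],
  [4, 8, 4, 8, 0],
  [6, 10, 6, 10, 2],
  [4, 10, 4, 10, 0, 2],
  [6, 8, 6, 8, 0, 2],
  [12, 2, 12, 0, 2],
  [12, 4, 12, 4],
  [12, 8, 12, 8],
  [12, 6, 12, 4, 6],
  [12, 10, 12, 8, 10]]
def RH : List (List ℕ) := [[0, 0],
  [2, 2],
  [4, 4],
  [6, 6],
  [8, 8],
  [10, 10],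
  [12, 12],
  [0, 2, 0, 2],
  [0, 4, 0, 4],
  [0, 6, 0, 6],
  [0, 8, 0, 8],
  [0, 10, 0, 10],
  [0, 12, 0, 12],
  [2, 4, 2, 4],
  [2, 6, 2, 6],
  [2, 8, 2, 8],
  [2, 10, 2, 10],
  [4, 6, 4, 6],
  [8, 10, 8, 10],
  [4, 8, 4, 8, 0],
  [6, 10, 6, 10, 2],
  [4, 10, 4, 10, 0, 2],
  [6, 8, 6, 8, 0, 2],
  [12, 2, 12, 0, 2],
  [12, 4, 12, 4],
  [12, 8, 12, 8],
  [12, 6, 12, 4, 6],
  [12, 10, 12, 8, 10],
  [14, 14, 14],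
  [14, 10, 14, 10],
  [14, 0, 15, 0],
  [14, 2, 15, 0, 4],
  [14, 4, 15, 4, 0, 2],
  [14, 8, 15, 12],
  [14, 12, 15, 12, 8],
  [14, 4, 6, 2, 15, 2, 6, 4],
  [16, 16, 16],
  [16, 6, 16, 6],
  [16, 0, 17, 0],
  [16, 2, 17, 0, 8],
  [16, 8, 17, 8, 0, 2],
  [16, 4, 17, 12],
  [16, 12, 17, 12, 4],
  [16, 8, 10, 2, 17, 2, 10, 8],
  [14, 16, 15, 4, 12, 17, 12, 4]]
def R1 : List (List ℕ) := [[0, 0],
  [2, 2],
  [4, 4],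
  [6, 6],
  [8, 8],
  [10, 10],
  [12, 12],
  [0, 2, 0, 2],
  [0, 4, 0, 4],
  [0, 6, 0, 6],
  [0, 8, 0, 8],
  [0, 10, 0, 10],
  [0, 12, 0, 12],
  [2, 4, 2, 4],
  [2, 6, 2, 6],
  [2, 8, 2, 8],
  [2, 10, 2, 10],
  [4, 6, 4, 6],
  [8, 10, 8, 10],
  [4, 8, 4, 8, 0],
  [6, 10, 6, 10, 2],
  [4, 10, 4, 10, 0, 2],
  [6, 8, 6, 8, 0, 2],
  [12, 2, 12, 0, 2],
  [12, 4, 12, 4],
  [12, 8, 12, 8],
  [12, 6, 12, 4, 6],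
  [12, 10, 12, 8, 10],
  [14, 14, 14],
  [14, 10, 14, 10],
  [14, 0, 15, 0],
  [14, 2, 15, 0, 4],
  [14, 4, 15, 4, 0, 2],
  [14, 8, 15, 12],
  [14, 12, 15, 12, 8],
  [14, 4, 6, 2, 15, 2, 6, 4],
  [16, 16, 16],
  [16, 12, 16, 12],
  [16, 0, 17, 2],
  [16, 2, 17, 0, 2],
  [16, 4, 17, 6],
  [16, 6, 17, 4, 6],
  [16, 8, 17, 10],
  [16, 10, 17, 8, 10],
  [16, 14, 16, 14, 16, 14, 16, 14, 16, 14],
  [16, 15, 16, 15, 16, 15, 16, 15, 16, 15, 16, 15, 16, 15, 16, 15]]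
def RU : List (List ℕ) := [[0, 0],
  [2, 2],
  [4, 4],
  [6, 6],
  [8, 8],
  [10, 10],
  [12, 12],
  [0, 2, 0, 2],
  [0, 4, 0, 4],
  [0, 6, 0, 6],
  [0, 8, 0, 8],
  [0, 10, 0, 10],
  [0, 12, 0, 12],
  [2, 4, 2, 4],
  [2, 6, 2, 6],
  [2, 8, 2, 8],
  [2, 10, 2, 10],
  [4, 6, 4, 6],
  [8, 10, 8, 10],
  [4, 8, 4, 8, 0],
  [6, 10, 6, 10, 2],
  [4, 10, 4, 10, 0, 2],
  [6, 8, 6, 8, 0, 2],
  [12, 2, 12, 0, 2],
  [12, 4, 12, 4],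
  [12, 8, 12, 8],
  [12, 6, 12, 4, 6],
  [12, 10, 12, 8, 10],
  [14, 14, 14],
  [14, 10, 14, 10],
  [14, 0, 15, 0],
  [14, 2, 15, 0, 4],
  [14, 4, 15, 4, 0, 2],
  [14, 8, 15, 12],
  [14, 12, 15, 12, 8],
  [14, 4, 6, 2, 15, 2, 6, 4],
  [16, 16, 16],
  [16, 6, 16, 6],
  [16, 0, 17, 0],
  [16, 2, 17, 0, 8],
  [16, 8, 17, 8, 0, 2],
  [16, 4, 17, 12],
  [16, 12, 17, 12, 4],
  [16, 8, 10, 2, 17, 2, 10, 8],
  [14, 16, 15, 4, 12, 17, 12, 4],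
  [18, 18, 18],
  [18, 12, 18, 12],
  [18, 0, 19, 2],
  [18, 2, 19, 0, 2],
  [18, 4, 19, 6],
  [18, 6, 19, 4, 6],
  [18, 8, 19, 10],
  [18, 10, 19, 8, 10],
  [18, 14, 18, 14, 18, 14, 18, 14, 18, 14],
  [18, 15, 18, 15, 18, 15, 18, 15, 18, 15, 18, 15, 18, 15, 18, 15],
  [18, 16, 18, 16, 18, 16, 18, 16, 18, 16],
  [18, 17, 18, 17, 18, 17, 18, 17, 18, 17, 18, 17, 18, 17, 18, 17],
  [12, 16, 2, 19, 8, 15, 18, 12, 16, 2, 19, 14, 8, 18, 2, 17, 12, 19, 8, 15, 18, 2, 17, 12, 19, 14, 8, 18]]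
theorem bndT : Bnd RT 7 128 :=
  Bnd.tc (bnd_zero []) (n := 128) (fun g ω => T54.H27T.enum g ω) (by decide) [0, 2, 4, 6, 8, 10, 12] rfl (fun _ h => h)
    []
    []
    (by decide +kernel)
theorem bndH : Bnd RH 9 1152 :=
  Bnd.tc bndT (n := 9) (fun g ω => T54.H27H.enum g ω) (by decide) [0, 2, 4, 6, 8, 10, 12, 14, 15, 16, 17] rfl (icol_ge _ rfl)
    [[0],
  [2],
  [4],
  [6],
  [8],
  [10],
  [12]]
    [([14, 15], []),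
  ([15, 14], []),
  ([16, 17], []),
  ([17, 16], [])]
    (by decide +kernel)
theorem bnd1 : Bnd R1 9 5760 :=
  Bnd.tc bndT (n := 45) (fun g ω => T54.H27M1.enum g ω) (by decide) [0, 2, 4, 6, 8, 10, 12, 14, 15, 16, 17] rfl (icol_ge _ rfl)
    [[0],
  [2],
  [4],
  [6],
  [8],
  [10],
  [12]]
    [([14, 15], []),
  ([15, 14], []),
  ([16, 17], []),
  ([17, 16], [])]
    (by decide +kernel)
theorem bndU : Bnd RU 10 3265920 :=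
  Bnd.tc bnd1 (n := 567) (fun g ω => T54.H27U.enum g ω) (by decide) [0, 2, 4, 6, 8, 10, 12, 14, 15, 16, 17, 18, 19] rfl (icol_ge _ rfl)
    [[0],
  [2],
  [4],
  [6],
  [8],
  [10],
  [12],
  [14],
  [18]]
    [([14, 15], []),
  ([15, 14], []),
  ([16, 17], []),
  ([17, 16], []),
  ([18, 19], []),
  ([19, 18], [])]
    (by decide +kernel)
theorem eqns_pres : True := by
  have := @RT.eq_1
  have := @RH.eq_1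
  have := @R1.eq_1
  have := @RU.eq_1
  trivial
end H27.MP
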