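import Cfsg.Agent.Lib.McL27.Pres
import Cfsg.Agent.Lib.McL27.TC2
/-! The presentations of `2.A₈` and `McL` -/
set_option autoImplicit false
set_option maxRecDepth 100000
namespace H27.MP
open H54
def RK : List (List ℕ) := [[0, 0],
  [2, 2],
  [4, 4],
  [6, 6],
  [8, 8],
  [10, 10],
  [12, 12],
  [0, 2, 0, 2],
  [0, 4, 0, 4],
  [0, 6, 0, 6],
  [0, 8, 0, 8],
  [0, 10, 0, 10],
  [0, 12, 0, 12],
  [2, 4, 2, 4],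
  [2, 6, 2, 6],
  [2, 8, 2, 8],
  [2, 10, 2, 10],
  [4, 6, 4, 6],
  [8, 10, 8, 10],
  [4, 8, 4, 8, 0],
  [6, 10, 6, 10, 2],
  [4, 10, 4, 10, 0, 2],
  [6, 8, 6, 8, 0, 2],
  [12, 2, 12, 0, 2],
  [12, 4, 12, 4],
  [12, 8, 12, 8],
  [12, 6, 12, 4, 6],
  [12, 10, 12, 8, 10],
  [14, 14, 14],
  [14, 10, 14, 10],
  [14, 0, 15, 0],
  [14, 2, 15, 0, 4],
  [14, 4, 15, 4, 0, 2],
  [14, 8, 15, 12],
  [14, 12, 15, 12, 8],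
  [14, 4, 6, 2, 15, 2, 6, 4],
  [16, 16, 16],
  [16, 6, 16, 6],
  [16, 0, 17, 0],
  [16, 2, 17, 0, 8],
  [16, 8, 17, 8, 0, 2],
  [16, 4, 17, 12],
  [16, 12, 17, 12, 4],
  [16, 8, 10, 2, 17, 2, 10, 8],
  [14, 16, 15, 4, 12, 17, 12, 4],
  [18, 18, 18],
  [18, 12, 18, 12],
  [18, 0, 19, 0],
  [18, 2, 19, 2],
  [18, 4, 19, 6],
  [18, 6, 19, 4, 6],
  [18, 8, 19, 8, 10],
  [18, 10, 19, 8],
  [18, 15, 18, 15, 18, 15],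
  [18, 16, 18, 16, 18, 16]]
def RM : List (List ℕ) := [[0, 0],
  [2, 2],
  [4, 4],
  [6, 6],
  [8, 8],
  [10, 10],
  [12, 12],
  [0, 2, 0, 2],
  [0, 4, 0, 4],
  [0, 6, 0, 6],
  [0, 8, 0, 8],
  [0, 10, 0, 10],
  [0, 12, 0, 12],
  [2, 4, 2, 4],
  [2, 6, 2, 6],
  [2, 8, 2, 8],
  [2, 10, 2, 10],
  [4, 6, 4, 6],
  [8, 10, 8, 10],
  [4, 8, 4, 8, 0],
  [6, 10, 6, 10, 2],
  [4, 10, 4, 10, 0, 2],
  [6, 8, 6, 8, 0, 2],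
  [12, 2, 12, 0, 2],
  [12, 4, 12, 4],
  [12, 8, 12, 8],
  [12, 6, 12, 4, 6],
  [12, 10, 12, 8, 10],
  [14, 14, 14],
  [14, 10, 14, 10],
  [14, 0, 15, 0],
  [14, 2, 15, 0, 4],
  [14, 4, 15, 4, 0, 2],
  [14, 8, 15, 12],
  [14, 12, 15, 12, 8],
  [14, 4, 6, 2, 15, 2, 6, 4],
  [16, 16, 16],
  [16, 6, 16, 6],
  [16, 0, 17, 0],
  [16, 2, 17, 0, 8],
  [16, 8, 17, 8, 0, 2],
  [16, 4, 17, 12],
  [16, 12, 17, 12, 4],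
  [16, 8, 10, 2, 17, 2, 10, 8],
  [14, 16, 15, 4, 12, 17, 12, 4],
  [18, 18, 18],
  [18, 12, 18, 12],
  [18, 0, 19, 2],
  [18, 2, 19, 0, 2],
  [18, 4, 19, 6],
  [18, 6, 19, 4, 6],
  [18, 8, 19, 10],
  [18, 10, 19, 8, 10],
  [18, 14, 18, 14, 18, 14, 18, 14, 18, 14],
  [18, 15, 18, 15, 18, 15, 18, 15, 18, 15, 18, 15, 18, 15, 18, 15],
  [18, 16, 18, 16, 18, 16, 18, 16, 18, 16],
  [18, 17, 18, 17, 18, 17, 18, 17, 18, 17, 18, 17, 18, 17, 18, 17],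
  [12, 16, 2, 19, 8, 15, 18, 12, 16, 2, 19, 14, 8, 18, 2, 17, 12, 19, 8, 15, 18, 2, 17, 12, 19, 14, 8, 18],
  [20, 20, 20],
  [20, 12, 20, 12],
  [20, 0, 21, 0],
  [20, 2, 21, 2],
  [20, 4, 21, 6],
  [20, 6, 21, 4, 6],
  [20, 8, 21, 8, 10],
  [20, 10, 21, 8],
  [20, 15, 20, 15, 20, 15],
  [20, 16, 20, 16, 20, 16],
  [20, 18, 21, 19]]
theorem bndK : Bnd RK 10 40320 :=
  Bnd.tc bndH (n := 35) (fun g ω => T54.H27K.enum g ω) (by decide) [0, 2, 4, 6, 8, 10, 12, 14, 15, 16, 17, 18, 19] rfl (icol_ge _ rfl)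
    [[0],
  [2],
  [4],
  [6],
  [8],
  [10],
  [12],
  [14],
  [16]]
    [([14, 15], []),
  ([15, 14], []),
  ([16, 17], []),
  ([17, 16], []),
  ([18, 19], []),
  ([19, 18], [])]
    (by decide +kernel)
theorem bndM : Bnd RM 11 898128000 :=
  Bnd.tc bndU (n := 275) (fun g ω => T54.H27McL.enum g ω) (by decide) [0, 2, 4, 6, 8, 10, 12, 14, 15, 16, 17, 18, 19, 20, 21] rfl (icol_ge _ rfl)
    [[0],
  [2],
  [4],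
  [6],
  [8],
  [10],
  [12],
  [14],
  [16],
  [18]]
    [([14, 15], []),
  ([15, 14], []),
  ([16, 17], []),
  ([17, 16], []),
  ([18, 19], []),
  ([19, 18], []),
  ([20, 21], []),
  ([21, 20], [])]
    (by decide +kernel)
theorem eqns_pres2 : True := by
  have := @RK.eq_1
  have := @RM.eq_1
  trivial
end H27.MP
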